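import Groth.Prelude.Def_NonAbH2
import Groth.Prelude.Def_Red
import Groth.Agent.Lib.Lim.Existence
import Groth.Agent.Lib.RedPts.BC
import Groth.Agent.Lib.TorsorSch.FibreProd
import Groth.Agent.Lib.TorsorSch.Basic
import Mathlib.RingTheory.Flat.Equalizer
import Mathlib.AlgebraicGeometry.AffineTransitionLimit

/-!
# Cofiltered limits of affine group schemes and of their torsors
-/

set_option autoImplicit false
set_option linter.style.haveILetI false
set_option linter.unusedSectionVars false

noncomputable section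

universe u

open CategoryTheory CategoryTheory.Limits MonoidalCategory CartesianMonoidalCategory AlgebraicGeometry
open scoped MonObj GrpObj TensorProduct

namespace Groth.Agent.Lib.LimTorsor

variable {I : Type u} [SmallCategory I] [IsCofiltered I]

/-- A limit cone of a diagram of affine group schemes is a limit cone of the underlying schemes. -/
theorem nonempty_isLimit_forget {S : Scheme.{u}} [IsAffine S] (DG : I ⥤ Grp (Over S))
    [∀ i, IsAffineHom (DG.obj i).X.hom] {cG : Cone DG} (hcG : IsLimit cG) :
    Nonempty (IsLimit ((Grp.forget (Over S)).mapCone cG)) := by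
  haveI := IsCofiltered.isConnected I
  let D := DG ⋙ Grp.forget (Over S)
  have : HasLimit (D ⋙ Over.forget S) := Lim.Existence.hasLimit_of_isAffine _ fun i => by
    show IsAffine (DG.obj i).X.left
    exact isAffine_of_isAffineHom (DG.obj i).X.hom
  have : HasLimit D := hasLimit_of_created D (Over.forget S)
  let L := limit D
  let π : ∀ i, L ⟶ (DG.obj i).X := fun i => limit.π D i
  have hw : ∀ {i j : I} (w : i ⟶ j), π i ≫ (DG.map w).hom.hom = π j := fun w => limit.w D w
  let one : 𝟙_ (Over S) ⟶ L := limit.lift D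
    { pt := 𝟙_ (Over S)
      π := { app := fun i => η[(DG.obj i).X]
             naturality := fun i j w => by
               show 𝟙 _ ≫ η[(DG.obj j).X] = η[(DG.obj i).X] ≫ (DG.map w).hom.hom
               rw [IsMonHom.one_hom, Category.id_comp] } }
  let mul : L ⊗ L ⟶ L := limit.lift D
    { pt := L ⊗ L
      π := { app := fun i => (π i ⊗ₘ π i) ≫ μ[(DG.obj i).X]
             naturality := fun i j w => by
               show 𝟙 _ ≫ (π j ⊗ₘ π j) ≫ μ[(DG.obj j).X] = ((π i ⊗ₘ π i) ≫ μ[(DG.obj i).X]) ≫ (DG.map w).hom.hom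
               rw [Category.assoc, IsMonHom.mul_hom, Category.id_comp, tensorHom_comp_tensorHom_assoc, hw] } }
  let πinv : ∀ i, L ⟶ (DG.obj i).X := fun i => (π i)⁻¹
  let inv : L ⟶ L := limit.lift D
    { pt := L
      π := { app := fun i => πinv i
             naturality := fun i j w => by
               show 𝟙 L ≫ πinv j = πinv i ≫ (DG.map w).hom.hom
               simp only [πinv]
               rw [GrpObj.inv_comp, hw, Category.id_comp] } }
  have hone : ∀ i, one ≫ π i = η[(DG.obj i).X] := fun i => limit.lift_π _ i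
  have hmul : ∀ i, mul ≫ π i = (π i ⊗ₘ π i) ≫ μ[(DG.obj i).X] := fun i => limit.lift_π _ i
  have hinv : ∀ i, inv ≫ π i = (π i)⁻¹ := fun i => limit.lift_π _ i
  have hm : ∀ {T : Over S} (x y : T ⟶ L) i, (lift x y ≫ mul) ≫ π i = (x ≫ π i) * (y ≫ π i) := by
    intro T x y i
    rw [Category.assoc, hmul, lift_map_assoc, ← Hom.mul_def]
  have hu : ∀ {T : Over S} (t : T ⟶ 𝟙_ (Over S)) i, (t ≫ one) ≫ π i = 1 := by
    intro T t i
    rw [Category.assoc, hone, Hom.one_def, toUnit_unique t (toUnit T)]
  letI : MonObj L :=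
    { one := one
      mul := mul
      one_mul := limit.hom_ext fun i => by
        show ((one ▷ L) ≫ mul) ≫ π i = (λ_ L).hom ≫ π i
        have e : one ▷ L = lift (fst (𝟙_ (Over S)) L ≫ one) (snd _ _) := by
          apply CartesianMonoidalCategory.hom_ext <;> simp
        rw [e, hm, hu, one_mul, leftUnitor_hom]
      mul_one := limit.hom_ext fun i => by
        show ((L ◁ one) ≫ mul) ≫ π i = (ρ_ L).hom ≫ π i
        have e : L ◁ one = lift (fst L _) (snd L (𝟙_ (Over S)) ≫ one) := by
          apply CartesianMonoidalCategory.hom_ext <;> simp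
        rw [e, hm, hu, mul_one, rightUnitor_hom]
      mul_assoc := limit.hom_ext fun i => by
        show ((mul ▷ L) ≫ mul) ≫ π i = ((α_ L L L).hom ≫ (L ◁ mul) ≫ mul) ≫ π i
        have e1 : mul ▷ L = lift (lift (fst (L ⊗ L) L ≫ fst L L) (fst _ _ ≫ snd L L) ≫ mul) (snd _ _) := by
          apply CartesianMonoidalCategory.hom_ext <;> simp
        have e2 : (α_ L L L).hom ≫ (L ◁ mul) =
            lift (fst (L ⊗ L) L ≫ fst L L) (lift (fst _ _ ≫ snd L L) (snd _ _) ≫ mul) := by
          apply CartesianMonoidalCategory.hom_ext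
          · simp
          · simp only [Category.assoc, whiskerLeft_snd, lift_snd]
            rw [← Category.assoc]
            congr 1
            apply CartesianMonoidalCategory.hom_ext <;> simp
        rw [e1, ← Category.assoc (α_ L L L).hom, e2, hm, hm, hm, hm, mul_assoc] }
  letI : GrpObj L :=
    { inv := inv
      left_inv := limit.hom_ext fun i => by
        show (lift inv (𝟙 L) ≫ mul) ≫ π i = (toUnit L ≫ one) ≫ π i
        rw [hm, hu, hinv, Category.id_comp, inv_mul_cancel]
      right_inv := limit.hom_ext fun i => by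
        show (lift (𝟙 L) inv ≫ mul) ≫ π i = (toUnit L ≫ one) ≫ π i
        rw [hm, hu, hinv, Category.id_comp, mul_inv_cancel] }
  haveI : ∀ i, IsMonHom (π i) := fun i => ⟨hone i, hmul i⟩
  let c₀ : Cone DG :=
    { pt := Grp.mk L
      π := { app := fun i => Grp.homMk (A := Grp.mk L) (π i)
             naturality := fun i j w => Grp.hom_ext _ _ ((Category.id_comp _).trans (hw w).symm) } }
  let v : Grp.mk L ⟶ cG.pt := hcG.lift c₀
  let v' : cG.pt.X ⟶ L := limit.lift D ((Grp.forget _).mapCone cG)
  have hv' : ∀ i, v' ≫ π i = (cG.π.app i).hom.hom := fun i => limit.lift_π _ i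
  haveI : IsMonHom v' := by
    refine ⟨limit.hom_ext fun i => ?_, limit.hom_ext fun i => ?_⟩
    · show (η[cG.pt.X] ≫ v') ≫ π i = one ≫ π i
      rw [Category.assoc, hv', IsMonHom.one_hom, hone]
    · show (μ[cG.pt.X] ≫ v') ≫ π i = ((v' ⊗ₘ v') ≫ mul) ≫ π i
      rw [Category.assoc, hv', IsMonHom.mul_hom, Category.assoc, hmul, tensorHom_comp_tensorHom_assoc, hv']
  have hv : ∀ i, v ≫ cG.π.app i = c₀.π.app i := fun i => hcG.fac c₀ i
  have h1 : Grp.homMk (A := cG.pt) (B := Grp.mk L) v' ≫ v = 𝟙 cG.pt := hcG.hom_ext fun i => by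
    rw [Category.assoc, hv, Category.id_comp]
    exact Grp.hom_ext _ _ (hv' i)
  have h2 : v.hom.hom ≫ v' = 𝟙 L := limit.hom_ext fun i => by
    show (v.hom.hom ≫ v') ≫ π i = 𝟙 L ≫ π i
    rw [Category.assoc, hv', Category.id_comp]
    exact congrArg (fun z : Grp.mk L ⟶ DG.obj i => z.hom.hom) (hv i)
  let e : cG.pt.X ≅ L :=
    { hom := v', inv := v.hom.hom
      hom_inv_id := congrArg (fun z : cG.pt ⟶ cG.pt => z.hom.hom) h1
      inv_hom_id := h2 }
  exact ⟨IsLimit.ofIsoLimit (limit.isLimit D) (Cone.ext e fun i => (hv' i).symm).symm⟩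

section Torsor

variable {S X : Scheme.{u}} [IsAffine S] {p : X ⟶ S} {DG : I ⥤ Grp (Over S)} [∀ i, IsAffineHom (DG.obj i).X.hom]
  {cG : Cone DG} {DT : I ⥤ Over X} {aT : ∀ i, AlgGrp.Action (Red.bc p (DG.obj i).X) (DT.obj i)} {cT : Cone DT}
  {a : AlgGrp.Action (Red.bc p cG.pt.X) cT.pt}

/-- A limit of pseudo-torsors is a pseudo-torsor. -/
theorem isPseudoTorsorSch_limit (hcG : IsLimit cG) (hcT : IsLimit cT)
    (hT : ∀ i, NonAbH1.IsPseudoTorsorSch (aT i))
    (hDT : ∀ (i j : I) (φ : i ⟶ j), AlgGrp.Action.IsEquivariant (aT i)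
      ((aT j).restrict ((Over.pullback p).map (DG.map φ).hom.hom)) (DT.map φ))
    (ha : ∀ i, AlgGrp.Action.IsEquivariant a
      ((aT i).restrict ((Over.pullback p).map (cG.π.app i).hom.hom)) (cT.π.app i)) :
    NonAbH1.IsPseudoTorsorSch a := by
  obtain ⟨hL₀⟩ := nonempty_isLimit_forget DG hcG
  have : PreservesLimitsOfSize.{u, u} (Over.pullback p) := (Over.mapPullbackAdj p).rightAdjoint_preservesLimits
  let hL := isLimitOfPreserves (Over.pullback p) hL₀
  refine TorsorSch.FibreProd.pseudo_of_existsUnique fun {Z} x y => ?_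
  choose g hg hgu using fun i => TorsorSch.FibreProd.existsUnique_of_pseudo (hT i) (x ≫ cT.π.app i) (y ≫ cT.π.app i)
  have hcompat : ∀ {i j : I} (w : i ⟶ j), g i ≫ (Over.pullback p).map (DG.map w).hom.hom = g j := by
    intro i j w
    refine hgu j _ ?_
    have e := congrArg (lift (g i) (x ≫ cT.π.app i) ≫ ·) (hDT i j w)
    simp only [lift_whiskerLeft_assoc, AlgGrp.Action.lift_restrict_act, Category.assoc] at e
    rw [← Category.assoc, show lift (g i) (x ≫ cT.π.app i) ≫ (aT i).act = y ≫ cT.π.app i from hg i] at e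
    simp only [Category.assoc] at e
    rw [cT.w w] at e
    exact e.symm
  let c : Cone ((DG ⋙ Grp.forget (Over S)) ⋙ Over.pullback p) :=
    { pt := Z
      π := { app := fun i => g i
             naturality := fun i j w => (Category.id_comp (g j)).trans (hcompat w).symm } }
  let ell : Z ⟶ Red.bc p cG.pt.X := hL.lift c
  have hl : ∀ i, ell ≫ (Over.pullback p).map (cG.π.app i).hom.hom = g i := fun i => hL.fac c i
  have hact : ∀ (q : Z ⟶ Red.bc p cG.pt.X) i, (lift q x ≫ a.act) ≫ cT.π.app i =
      lift (q ≫ (Over.pullback p).map (cG.π.app i).hom.hom) (x ≫ cT.π.app i) ≫ (aT i).act := by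
    intro q i
    rw [Category.assoc, show a.act ≫ cT.π.app i = _ from ha i, lift_whiskerLeft_assoc,
      AlgGrp.Action.lift_restrict_act]
  refine ⟨ell, hcT.hom_ext fun i => ?_, fun q hq => hL.hom_ext fun i => ?_⟩
  · rw [hact, hl]; exact hg i
  · refine ((hgu i) (q ≫ (Over.pullback p).map (cG.π.app i).hom.hom) ?_).trans (hl i).symm
    show lift _ _ ≫ _ = _
    rw [← hact, show lift q x ≫ a.act = y from hq]

end Torsor

/-- Cofiltered limits of schemes which are affine, flat and surjective over the base have the same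
properties. -/
theorem affine_flat_surjective_limit {X : Scheme.{u}} {DT : I ⥤ Over X} {cT : Cone DT} (hcT : IsLimit cT)
    (ha : ∀ i, IsAffineHom (DT.obj i).hom) (hf : ∀ i, Flat (DT.obj i).hom)
    (hs : ∀ i, Surjective (DT.obj i).hom) :
    IsAffineHom cT.pt.hom ∧ Flat cT.pt.hom ∧ Surjective cT.pt.hom := by
  haveI := IsCofiltered.isConnected I
  let D' := DT ⋙ Over.forget X
  haveI : ∀ {i j : I} (w : i ⟶ j), IsAffineHom (D'.map w) := fun {i j} w => by
    have := ha i
    have := ha j
    have : IsAffineHom ((DT.map w).left ≫ (DT.obj j).hom) := by rw [Over.w]; infer_instance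
    exact MorphismProperty.of_postcomp (W := @IsAffineHom) (W' := @IsSeparated) (DT.map w).left (DT.obj j).hom
      inferInstance this
  let c' : Cone D' := (Over.forget X).mapCone cT
  have hc' : IsLimit c' := isLimitOfPreserves (Over.forget X) hcT
  have haff : IsAffineHom cT.pt.hom := by
    obtain ⟨i⟩ := IsCofiltered.nonempty (C := I)
    have := ha i
    have : IsAffineHom (cT.π.app i).left := isAffineHom_π_app D' c' hc' i
    have e : (cT.π.app i).left ≫ (DT.obj i).hom = cT.pt.hom := Over.w (cT.π.app i)
    rw [← e]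
    exact MorphismProperty.comp_mem _ (cT.π.app i).left (DT.obj i).hom ‹_› (ha i)
  -- the affine case
  have key : ∀ (A : Type u) [CommRing A] (j : Spec (CommRingCat.of A) ⟶ X),
      Flat (pullback.snd cT.pt.hom j) ∧ (Nontrivial A → Nonempty (pullback cT.pt.hom j : Scheme.{u})) := by
    intro A _ j
    have : PreservesLimitsOfSize.{u, u} (Over.pullback j) := (Over.mapPullbackAdj j).rightAdjoint_preservesLimits
    let E := DT ⋙ Over.pullback j
    let cE : Cone E := (Over.pullback j).mapCone cT
    have hcE : IsLimit cE := isLimitOfPreserves (Over.pullback j) hcT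
    have hEa : ∀ i, IsAffineHom (E.obj i).hom := fun i =>
      MorphismProperty.pullback_snd (P := @IsAffineHom) _ j (ha i)
    have hEaff : ∀ i, IsAffine (E.obj i).left := fun i =>
      have := hEa i
      isAffine_of_isAffineHom (E.obj i).hom
    let E' := E ⋙ Over.forget _
    let c : Cone E' := (Over.forget _).mapCone cE
    have hc : IsLimit c := isLimitOfPreserves (Over.forget _) hcE
    haveI : ∀ i, IsAffine (E'.obj i) := hEaff
    haveI : ∀ {i j : I} (w : i ⟶ j), IsAffineHom (E'.map w) := fun w => inferInstance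
    have hQaff : IsAffine c.pt := by
      have : IsAffineHom (pullback.snd cT.pt.hom j) := MorphismProperty.pullback_snd (P := @IsAffineHom) _ j haff
      exact @isAffine_of_isAffineHom _ _ (pullback.snd cT.pt.hom j) this _
    let str : ∀ W : Over (Spec (CommRingCat.of A)), A →+* Γ(W.left, ⊤) := fun W =>
      ((Scheme.ΓSpecIso (CommRingCat.of A)).inv ≫ W.hom.appTop).hom
    letI := fun i => (str (E.obj i)).toAlgebra
    letI := (str cE.pt).toAlgebra
    let tr : ∀ {W W' : Over (Spec (CommRingCat.of A))} (m : W' ⟶ W),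
        letI := (str W).toAlgebra
        letI := (str W').toAlgebra
        Γ(W.left, ⊤) →ₐ[A] Γ(W'.left, ⊤) := fun {W W'} m =>
      letI := (str W).toAlgebra
      letI := (str W').toAlgebra
      { m.left.appTop.hom with
        commutes' := fun r => by
          show m.left.appTop (W.hom.appTop _) = W'.hom.appTop _
          rw [← Over.w m]; rfl }
    have hflat : ∀ i, Module.Flat A Γ((E.obj i).left, ⊤) := fun i => by
      have hfi : Flat (E.obj i).hom := MorphismProperty.pullback_snd (P := @Flat) _ j (hf i)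
      have : (str (E.obj i)).Flat := by
        show ((E.obj i).hom.appTop.hom.comp (Scheme.ΓSpecIso (CommRingCat.of A)).inv.hom).Flat
        exact RingHom.Flat.comp (RingHom.Flat.of_bijective (ConcreteCategory.bijective_of_isIso _))
          (HasRingHomProperty.appTop (P := @Flat) _ hfi)
      exact this
    let πc : ∀ i, cE.pt ⟶ E.obj i := fun i => cE.π.app i
    have hπw : ∀ {i i' : I} (w : i ⟶ i'), πc i ≫ E.map w = πc i' := fun w => cE.w w
    have hmflat : Module.Flat A Γ(cE.pt.left, ⊤) := by
      rw [Module.Flat.iff_rTensor_injective']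
      intro J
      refine (injective_iff_map_eq_zero _).2 fun z hz => ?_
      obtain ⟨i₀⟩ := IsCofiltered.nonempty (C := I)
      have hfin : ∀ z : J ⊗[A] Γ(cE.pt.left, ⊤), ∃ (i : I) (z' : J ⊗[A] Γ((E.obj i).left, ⊤)),
          LinearMap.lTensor J (tr (πc i)).toLinearMap z' = z := by
        intro z
        induction z using TensorProduct.induction_on with
        | zero => exact ⟨i₀, 0, map_zero _⟩
        | tmul r b =>
          obtain ⟨i, b', hb⟩ := exists_appTop_π_eq_of_isLimit E' c hc b
          exact ⟨i, r ⊗ₜ b', by rw [LinearMap.lTensor_tmul]; exact congrArg (r ⊗ₜ[A] ·) hb.symm⟩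
        | add z₁ z₂ h₁ h₂ =>
          obtain ⟨i₁, w₁, e₁⟩ := h₁
          obtain ⟨i₂, w₂, e₂⟩ := h₂
          refine ⟨IsCofiltered.min i₁ i₂,
            LinearMap.lTensor J (tr (E.map (IsCofiltered.minToLeft i₁ i₂))).toLinearMap w₁ +
            LinearMap.lTensor J (tr (E.map (IsCofiltered.minToRight i₁ i₂))).toLinearMap w₂, ?_⟩
          rw [map_add, ← LinearMap.lTensor_comp_apply, ← LinearMap.lTensor_comp_apply, ← e₁, ← e₂]
          congr 2 <;>
          · refine congrArg (LinearMap.lTensor J) (LinearMap.ext fun b => ?_)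
            show (πc _).left.appTop ((E.map _).left.appTop b) = (πc _).left.appTop b
            rw [← CommRingCat.comp_apply, ← Scheme.Hom.comp_appTop, ← Over.comp_left, hπw]
      obtain ⟨i, z', rfl⟩ := hfin z
      let μi : J ⊗[A] Γ((E.obj i).left, ⊤) →ₗ[A] A ⊗[A] Γ((E.obj i).left, ⊤) :=
        LinearMap.rTensor _ J.subtype
      have h0 : (tr (πc i)) (TensorProduct.lid A _ (μi z')) = 0 := by
        have e : ∀ w, TensorProduct.lid A _ (LinearMap.rTensor Γ(cE.pt.left, ⊤) J.subtype
            (LinearMap.lTensor J (tr (πc i)).toLinearMap w)) = tr (πc i) (TensorProduct.lid A _ (μi w)) := by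
          intro w
          induction w using TensorProduct.induction_on with
          | zero => simp
          | tmul r b => simp [μi]
          | add w₁ w₂ h₁ h₂ => simp only [map_add, h₁, h₂]
        rw [← e, hz, map_zero]
      let m0 : Γ((E.obj i).left, ⊤) := TensorProduct.lid A _ (μi z')
      obtain ⟨i', w, hw⟩ := exists_appTop_map_eq_zero_of_isLimit E' c hc (i := i) m0 h0
      have h1 : LinearMap.lTensor J (tr (E.map w)).toLinearMap z' = 0 := by
        refine Module.Flat.iff_rTensor_injective'.1 (hflat i') J ?_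
        rw [map_zero]
        refine (TensorProduct.lid A _).injective ?_
        rw [map_zero]
        have e : ∀ v, TensorProduct.lid A _ (LinearMap.rTensor Γ((E.obj i').left, ⊤) J.subtype
            (LinearMap.lTensor J (tr (E.map w)).toLinearMap v)) = tr (E.map w) (TensorProduct.lid A _ (μi v)) := by
          intro v
          induction v using TensorProduct.induction_on with
          | zero => simp
          | tmul r b => simp [μi]
          | add v₁ v₂ h₁ h₂ => simp only [map_add, h₁, h₂]
        rw [e]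
        exact hw
      have e : (tr (πc i')).toLinearMap ∘ₗ (tr (E.map w)).toLinearMap = (tr (πc i)).toLinearMap :=
        LinearMap.ext fun b => by
          show (πc _).left.appTop ((E.map _).left.appTop b) = (πc _).left.appTop b
          rw [← CommRingCat.comp_apply, ← Scheme.Hom.comp_appTop, ← Over.comp_left, hπw]
      rw [← e, LinearMap.lTensor_comp_apply, h1, map_zero]
    refine ⟨?_, fun hA => ?_⟩
    · have : IsAffine cE.pt.left := hQaff
      show Flat cE.pt.hom
      refine (HasRingHomProperty.iff_of_isAffine (P := @Flat) (f := cE.pt.hom)).2 ?_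
      have e : cE.pt.hom.appTop.hom = (str cE.pt).comp (Scheme.ΓSpecIso (CommRingCat.of A)).hom.hom := by
        ext r
        show _ = cE.pt.hom.appTop ((Scheme.ΓSpecIso (CommRingCat.of A)).inv ((Scheme.ΓSpecIso _).hom r))
        rw [Iso.hom_inv_id_apply]
      rw [e]
      exact RingHom.Flat.comp (RingHom.Flat.of_bijective (ConcreteCategory.bijective_of_isIso _)) hmflat
    · have : IsAffine cE.pt.left := hQaff
      by_contra hne
      rw [not_nonempty_iff] at hne
      have : IsEmpty (cE.pt.left : Scheme.{u}) := hne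
      obtain ⟨i₀⟩ := IsCofiltered.nonempty (C := I)
      have h1 : (c.π.app i₀).appTop (1 : Γ(E'.obj i₀, ⊤)) = 0 :=
        (inferInstance : Subsingleton Γ(cE.pt.left, ⊤)).elim _ _
      obtain ⟨i, w, hw⟩ := exists_appTop_map_eq_zero_of_isLimit E' c hc (1 : Γ(E'.obj i₀, ⊤)) h1
      rw [map_one] at hw
      have : Surjective (E.obj i).hom := MorphismProperty.pullback_snd (P := @Surjective) _ j (hs i)
      have hz : Nonempty (Spec (CommRingCat.of A) : Scheme.{u}) := inferInstanceAs (Nonempty (PrimeSpectrum A))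
      obtain ⟨pt⟩ := hz
      obtain ⟨z, -⟩ := (E.obj i).hom.surjective pt
      have : Nonempty (⊤ : (E'.obj i).Opens) := ⟨⟨z, trivial⟩⟩
      exact one_ne_zero hw
  refine ⟨haff, ?_, ⟨fun x => ?_⟩⟩
  · refine IsZariskiLocalAtTarget.of_openCover (P := @Flat) X.affineCover fun i => ?_
    let U := X.affineCover.X i
    have e : pullback.snd cT.pt.hom (X.affineCover.f i) =
        (pullback.map cT.pt.hom (X.affineCover.f i) cT.pt.hom (U.isoSpec.inv ≫ X.affineCover.f i) (𝟙 _)
          U.isoSpec.hom (𝟙 _) (by simp) (by simp)) ≫ pullback.snd _ _ ≫ U.isoSpec.inv := by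
      rw [pullback.lift_snd_assoc, Category.assoc, Iso.hom_inv_id, Category.comp_id]
    change Flat (pullback.snd cT.pt.hom (X.affineCover.f i))
    rw [e]
    have := (key Γ(U, ⊤) (U.isoSpec.inv ≫ X.affineCover.f i)).1
    exact MorphismProperty.comp_mem _ _ _ inferInstance (MorphismProperty.comp_mem _ _ _ this inferInstance)
  · obtain ⟨z⟩ := (key (X.residueField x) (X.fromSpecResidueField x)).2 inferInstance
    refine ⟨pullback.fst cT.pt.hom (X.fromSpecResidueField x) z, ?_⟩
    have : (pullback.snd cT.pt.hom (X.fromSpecResidueField x) ≫ X.fromSpecResidueField x) z = x :=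
      X.fromSpecResidueField_apply x _
    rw [← pullback.condition] at this
    exact this

end Groth.Agent.Lib.LimTorsor
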